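import Mathlib
import Cfsg.Agent.S0126
import Cfsg.Agent.H418.Frob
set_option linter.all false

/-!
# Counting elements of order `p ^ s` (Miller, Kulakoff)

`dvd_card_orderOf` : for `p` odd and a non-cyclic finite `p`-group `P`, the number of elements of
order `p ^ s`, `s ≥ 2`, is divisible by `p ^ s`.
-/

set_option autoImplicit false

namespace Cfsg.Agent.H496.CyclicCount

open Cfsg.Agent.Transfer.PGroupNormal

open scoped Pointwise

universe u

/-- `|Y| = φ(d) · |{⟨y⟩ : y ∈ Y}|` for a set `Y` of elements of order `d` which contains all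
generators of the groups `⟨y⟩`, `y ∈ Y`. -/
theorem card_eq_totient_mul {G : Type u} [Group G] [Finite G] {d : ℕ} (Y : Set G)
    (hY : ∀ y ∈ Y, orderOf y = d)
    (hcl : ∀ y ∈ Y, ∀ y' : G, Subgroup.zpowers y' = Subgroup.zpowers y → y' ∈ Y) :
    Nat.card Y = Nat.totient d * Nat.card (Subgroup.zpowers '' Y : Set (Subgroup G)) := by
  classical
  let f : Y → (Subgroup.zpowers '' Y : Set (Subgroup G)) := fun y => ⟨_, Set.mem_image_of_mem _ y.2⟩
  have h1 : Nat.card Y = Nat.card (Σ c : (Subgroup.zpowers '' Y : Set (Subgroup G)), {y : Y // f y = c}) :=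
    Nat.card_congr (Equiv.sigmaFiberEquiv f).symm
  have : Fintype (Subgroup.zpowers '' Y : Set (Subgroup G)) := Fintype.ofFinite _
  rw [h1, Nat.card_sigma]
  have h2 : ∀ c : (Subgroup.zpowers '' Y : Set (Subgroup G)), Nat.card {y : Y // f y = c} = Nat.totient d := by
    rintro ⟨c, y, hy, rfl⟩
    rw [← hY y hy, ← Cfsg.Agent.H418.Frob.card_gen y]
    refine Nat.card_congr ⟨fun z => ⟨z.1.1, congrArg Subtype.val z.2⟩, fun z => ⟨⟨z.1, hcl y hy _ z.2⟩, Subtype.ext z.2⟩, fun z => rfl, fun z => rfl⟩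
  simp only [h2, Finset.sum_const, Finset.card_univ, smul_eq_mul, Nat.card_eq_fintype_card]
  ring

/-- Commutators with a normal subgroup of order `p ^ 2` are central. -/
theorem comm_mem_center {P : Type u} [Group P] [Finite P] {p : ℕ} [Fact p.Prime] (hP : IsPGroup p P)
    {R : Subgroup P} (hR : R.Normal) (hcard : Nat.card R = p ^ 2) {r : P} (hr : r ∈ R) (x : P) :
    (x * r)⁻¹ * (r * x) ∈ Subgroup.center P ⊓ R := by
  have hpp : p.Prime := Fact.out
  have hRne : R ≠ ⊥ := by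
    rintro rfl
    rw [Subgroup.card_bot] at hcard
    have := Nat.one_lt_pow two_ne_zero hpp.one_lt
    omega
  obtain ⟨z, hzR, hzc, hz⟩ := exists_mem_inf_center_orderOf hP R hRne
  set Z := Subgroup.zpowers z with hZ
  have hZc : Z ≤ Subgroup.center P := Subgroup.zpowers_le.mpr hzc
  have hZR : Z ≤ R := Subgroup.zpowers_le.mpr hzR
  have hZn : Z.Normal := by
    constructor
    intro x hx g
    rw [Subgroup.mem_center_iff.mp (hZc hx) g]
    simpa using hx
  have hZcard : Nat.card Z = p := by rw [hZ, Nat.card_zpowers, hz]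
  set R' := R.map (QuotientGroup.mk' Z) with hR'
  have hcm : Nat.card R' = p := by
    have h1 := card_comap_mk' Z R'
    rw [hR', Subgroup.comap_map_eq, QuotientGroup.ker_mk', sup_eq_left.mpr hZR, hcard, hZcard, pow_two] at h1
    exact (Nat.eq_of_mul_eq_mul_right hpp.pos h1).symm
  have hR'n : R'.Normal := hR.map _ (QuotientGroup.mk'_surjective Z)
  have hR'ne : R' ≠ ⊥ := by
    intro h
    rw [h, Subgroup.card_bot] at hcm
    exact hpp.one_lt.ne hcm
  obtain ⟨w, hwR, hwc, hw⟩ := exists_mem_inf_center_orderOf (hP.to_quotient Z) R' hR'ne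
  have hwz : Subgroup.zpowers w = R' := by
    apply Subgroup.eq_of_le_of_card_ge (Subgroup.zpowers_le.mpr hwR)
    rw [hcm, Nat.card_zpowers, hw]
  have hcen : R' ≤ Subgroup.center (P ⧸ Z) := hwz ▸ Subgroup.zpowers_le.mpr hwc
  have h2 : (x * r)⁻¹ * (r * x) ∈ Z := by
    rw [← QuotientGroup.eq]
    have h3 := Subgroup.mem_center_iff.mp (hcen (Subgroup.mem_map_of_mem _ hr)) (QuotientGroup.mk' Z x)
    simpa using h3
  exact ⟨hZc h2, hZR h2⟩

/-- For `p` odd, `(x r) ^ p = x ^ p` for `r` in a normal elementary abelian subgroup of order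
`p ^ 2`. -/
theorem mul_pow_eq {P : Type u} [Group P] [Finite P] {p : ℕ} [Fact p.Prime] (hp : p ≠ 2)
    (hP : IsPGroup p P) {R : Subgroup P} (hR : R.Normal) (hel : Cfsg.IsElementaryAbelian p R)
    (hcard : Nat.card R = p ^ 2) {r : P} (hr : r ∈ R) (x : P) : (x * r) ^ p = x ^ p := by
  have hpp : p.Prime := Fact.out
  obtain ⟨h1, h2⟩ := comm_mem_center hP hR hcard hr x
  have hc := Subgroup.mem_center_iff.mp h1
  rw [mul_pow_prime hpp hp (c := (x * r)⁻¹ * (r * x)) (by group) (hc x).symm (hc r).symm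
    (hel.2 _ h2), hel.2 r hr, mul_one]

/-- The number of elements of order `p ^ s`, `s ≥ 2`, of a non-cyclic `p`-group, `p` odd, is
divisible by `p ^ s`. -/
theorem dvd_card_orderOf {P : Type u} [Group P] [Finite P] {p : ℕ} [Fact p.Prime] (hp : p ≠ 2)
    (hP : IsPGroup p P) (hnc : ¬ IsCyclic P) {s : ℕ} (hs : 2 ≤ s) :
    p ^ s ∣ Nat.card {x : P // orderOf x = p ^ s} := by
  classical
  have hpp : p.Prime := Fact.out
  obtain ⟨R, hR, hel, hcard⟩ := Cfsg.Agent.S0126.result hp hP hnc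
  -- invariance
  have hinv : ∀ x r : P, r ∈ R → orderOf x = p ^ s → orderOf (x * r) = p ^ s := by
    intro x r hr hx
    have h1 := mul_pow_eq hp hP hR hel hcard hr x
    obtain ⟨k, hk⟩ : ∃ k, s = k + 2 := ⟨s - 2, by omega⟩
    subst hk
    have h2 : (x * r) ^ p ^ (k + 2) = 1 := by
      rw [pow_succ' p (k + 1), pow_mul, h1, ← pow_mul, ← pow_succ', ← hx, pow_orderOf_eq_one]
    refine orderOf_eq_prime_pow ?_ h2
    rw [pow_succ' p k, pow_mul, h1, ← pow_mul, ← pow_succ']
    intro h3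
    have h4 := orderOf_dvd_of_pow_eq_one h3
    rw [hx] at h4
    have := (Nat.pow_dvd_pow_iff_le_right hpp.one_lt).mp h4
    omega
  set X : Set P := {x | orderOf x = p ^ s} with hX
  -- the image in the quotient
  set Y : Set (P ⧸ R) := QuotientGroup.mk' R '' X with hY
  have hcardX : Nat.card X = Nat.card Y * p ^ 2 := by
    let f : X → Y := fun x => ⟨_, Set.mem_image_of_mem _ x.2⟩
    have h1 : Nat.card X = Nat.card (Σ c : Y, {x : X // f x = c}) :=
      Nat.card_congr (Equiv.sigmaFiberEquiv f).symm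
    have : Fintype Y := Fintype.ofFinite _
    rw [h1, Nat.card_sigma]
    have h2 : ∀ c : Y, Nat.card {x : X // f x = c} = p ^ 2 := by
      rintro ⟨c, x, hx, rfl⟩
      rw [← hcard]
      refine Nat.card_congr ⟨fun z => ⟨x⁻¹ * z.1.1, ?_⟩, fun z => ⟨⟨x * z.1, hinv x z.1 z.2 hx⟩, ?_⟩, fun z => ?_, fun z => ?_⟩
      · rw [← QuotientGroup.eq]
        exact (congrArg Subtype.val z.2).symm
      · apply Subtype.ext
        show (QuotientGroup.mk' R) (x * z.1) = QuotientGroup.mk' R x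
        simp
      · apply Subtype.ext
        apply Subtype.ext
        show x * (x⁻¹ * z.1.1) = z.1.1
        group
      · apply Subtype.ext
        show x⁻¹ * (x * z.1) = z.1
        group
    simp only [h2, Finset.sum_const, Finset.card_univ, smul_eq_mul, Nat.card_eq_fintype_card]
  -- powers
  have hRp : ∀ x : P, x ∈ R → orderOf x ≠ p ^ s := by
    intro x hx h
    have h1 := orderOf_dvd_of_pow_eq_one (hel.2 x hx)
    rw [h] at h1
    have h2 := Nat.le_of_dvd hpp.pos h1
    have h3 : p ^ 1 < p ^ s := Nat.pow_lt_pow_right hpp.one_lt (by omega)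
    rw [pow_one] at h3
    omega
  have hcl : ∀ y ∈ Y, ∀ y' : P ⧸ R, Subgroup.zpowers y' = Subgroup.zpowers y → y' ∈ Y := by
    rintro _ ⟨x, hx, rfl⟩ y' hy'
    set y := QuotientGroup.mk' R x with hyd
    have hy1 : y ≠ 1 := by
      intro h
      exact hRp x ((QuotientGroup.eq_one_iff x).mp h) hx
    obtain ⟨k, hk⟩ : ∃ k : ℕ, y ^ k = y' := by
      have h1 : y' ∈ Subgroup.zpowers y := hy' ▸ Subgroup.mem_zpowers y'
      rw [← mem_powers_iff_mem_zpowers] at h1
      exact h1
    have ho : orderOf y' = orderOf y := by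
      rw [← Nat.card_zpowers, ← Nat.card_zpowers, hy']
    have hpy : p ∣ orderOf y := by
      obtain ⟨j, hj⟩ := IsPGroup.iff_orderOf.mp (hP.to_quotient R) y
      rw [hj]
      apply dvd_pow_self
      rintro rfl
      rw [pow_zero, orderOf_eq_one_iff] at hj
      exact hy1 hj
    have hkp : ¬ p ∣ k := by
      rintro ⟨l, rfl⟩
      have h1 : orderOf y' ∣ orderOf (y ^ p) := by
        rw [← hk, pow_mul]
        exact orderOf_pow_dvd l
      rw [ho, orderOf_pow_of_dvd hpp.ne_zero hpy] at h1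
      have h2 := Nat.le_of_dvd (Nat.div_pos (Nat.le_of_dvd (orderOf_pos y) hpy) hpp.pos) h1
      have h3 := Nat.div_lt_self (orderOf_pos y) hpp.one_lt
      omega
    refine ⟨x ^ k, ?_, ?_⟩
    · show orderOf (x ^ k) = p ^ s
      rw [Nat.Coprime.orderOf_pow, hx]
      rw [hx]
      exact Nat.Coprime.pow_left _ ((Nat.Prime.coprime_iff_not_dvd hpp).mpr hkp)
    · rw [map_pow, ← hk]
  have hord : ∀ y ∈ Y, orderOf y = p ^ s ∨ orderOf y = p ^ (s - 1) := by
    rintro _ ⟨x, hx, rfl⟩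
    set y := QuotientGroup.mk' R x with hyd
    obtain ⟨j, hj⟩ := IsPGroup.iff_orderOf.mp (hP.to_quotient R) y
    have hjs : j ≤ s := by
      have h1 : orderOf y ∣ p ^ s := by
        rw [← show orderOf x = p ^ s from hx]
        exact orderOf_map_dvd _ x
      rw [hj] at h1
      exact (Nat.pow_dvd_pow_iff_le_right hpp.one_lt).mp h1
    have hsj : s ≤ j + 1 := by
      have h1 : y ^ p ^ j = 1 := by rw [← hj, pow_orderOf_eq_one]
      rw [hyd, ← map_pow] at h1
      have h2 : x ^ p ^ j ∈ R := (QuotientGroup.eq_one_iff _).mp h1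
      have h3 := hel.2 _ h2
      rw [← pow_mul, ← pow_succ] at h3
      have h4 := orderOf_dvd_of_pow_eq_one h3
      rw [show orderOf x = p ^ s from hx] at h4
      exact (Nat.pow_dvd_pow_iff_le_right hpp.one_lt).mp h4
    rcases Nat.lt_or_ge j s with h | h
    · right
      rw [hj]
      congr 1
      omega
    · left
      rw [hj]
      congr 1
      omega
  obtain ⟨k, hk⟩ : ∃ k, s = k + 2 := ⟨s - 2, by omega⟩
  have hsub : ∀ d : ℕ, Nat.totient d ∣ Nat.card {y : P ⧸ R | y ∈ Y ∧ orderOf y = d} := by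
    intro d
    rw [card_eq_totient_mul {y : P ⧸ R | y ∈ Y ∧ orderOf y = d} (fun y hy => hy.2)]
    · exact dvd_mul_right _ _
    · rintro y ⟨hy1, hy2⟩ y' hy'
      refine ⟨hcl y hy1 y' hy', ?_⟩
      rw [← hy2, ← Nat.card_zpowers, ← Nat.card_zpowers, hy']
  have hYY : Nat.card Y = Nat.card {y : P ⧸ R | y ∈ Y ∧ orderOf y = p ^ s} +
      Nat.card {y : P ⧸ R | y ∈ Y ∧ orderOf y = p ^ (s - 1)} := by
    rw [Nat.card_coe_set_eq, Nat.card_coe_set_eq, Nat.card_coe_set_eq, ← Set.ncard_union_eq]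
    · congr 1
      ext y
      simp only [Set.mem_union, Set.mem_ofPred_eq]
      constructor
      · intro hy
        rcases hord y hy with h | h
        · exact Or.inl ⟨hy, h⟩
        · exact Or.inr ⟨hy, h⟩
      · rintro (h | h)
        · exact h.1
        · exact h.1
    · rw [Set.disjoint_left]
      rintro y ⟨-, h1⟩ ⟨-, h2⟩
      rw [h1] at h2
      have := Nat.pow_right_injective hpp.two_le h2
      omega
  have hdY : p ^ k ∣ Nat.card Y := by
    rw [hYY]
    refine dvd_add ?_ ?_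
    · refine dvd_trans ?_ (hsub (p ^ s))
      rw [hk, Nat.totient_prime_pow_succ hpp]
      exact Dvd.dvd.mul_right (pow_dvd_pow p (by omega)) _
    · refine dvd_trans ?_ (hsub (p ^ (s - 1)))
      rw [show s - 1 = k + 1 by omega, Nat.totient_prime_pow_succ hpp]
      exact dvd_mul_right _ _
  have hfin : p ^ s ∣ Nat.card X := by
    rw [hcardX, hk, pow_add]
    exact mul_dvd_mul_right hdY _
  exact hfin

/-- The unique decomposition of elements of order `a * b`, `a` and `b` coprime. -/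
theorem card_orderOf_mul {G : Type u} [Group G] {a b : ℕ} (hab : Nat.Coprime a b) :
    Nat.card {g : G // orderOf g = a * b} =
      Nat.card {q : G × G // orderOf q.1 = b ∧ orderOf q.2 = a ∧ Commute q.2 q.1} := by
  obtain ⟨u, v, hbu, hav, hu, hv, huv⟩ := Cfsg.Agent.H418.Frob.exists_exponents hab
  have key : ∀ g : G, orderOf g = a * b → orderOf (g ^ u) = a ∧ orderOf (g ^ v) = b ∧
      g ^ u * g ^ v = g := by
    intro g hg
    have h1 : g ^ u * g ^ v = g := by
      rw [← pow_add]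
      conv_rhs => rw [← pow_one g]
      rw [pow_eq_pow_iff_modEq, hg]
      exact huv
    have h2 : orderOf (g ^ u) ∣ a := by
      apply orderOf_dvd_of_pow_eq_one
      rw [← pow_mul, ← orderOf_dvd_iff_pow_eq_one, hg, mul_comm]
      exact mul_dvd_mul_right hbu a
    have h3 : orderOf (g ^ v) ∣ b := by
      apply orderOf_dvd_of_pow_eq_one
      rw [← pow_mul, ← orderOf_dvd_iff_pow_eq_one, hg]
      exact mul_dvd_mul_right hav b
    have h4 : a * b ∣ orderOf (g ^ u) * orderOf (g ^ v) := by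
      have h5 := (Commute.pow_pow (Commute.refl g) u v).orderOf_mul_dvd_mul_orderOf
      rw [h1, hg] at h5
      exact h5
    have h5 : Nat.Coprime a (orderOf (g ^ v)) := Nat.Coprime.coprime_dvd_right h3 hab
    have h6 : Nat.Coprime b (orderOf (g ^ u)) := Nat.Coprime.coprime_dvd_right h2 hab.symm
    have h7 : a ∣ orderOf (g ^ u) := h5.dvd_of_dvd_mul_right ((dvd_mul_right a b).trans h4)
    have h8 : b ∣ orderOf (g ^ v) := h6.dvd_of_dvd_mul_left ((dvd_mul_left b a).trans h4)
    exact ⟨Nat.dvd_antisymm h2 h7, Nat.dvd_antisymm h3 h8, h1⟩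
  have key2 : ∀ x y : G, orderOf y = b → orderOf x = a → Commute x y →
      (x * y) ^ u = x ∧ (x * y) ^ v = y := by
    intro x y hy hx hc
    have hyu : y ^ u = 1 := orderOf_dvd_iff_pow_eq_one.mp (hy ▸ hbu)
    have hxv : x ^ v = 1 := orderOf_dvd_iff_pow_eq_one.mp (hx ▸ hav)
    constructor
    · rw [hc.mul_pow, hyu, mul_one]
      conv_rhs => rw [← pow_one x]
      rw [pow_eq_pow_iff_modEq, hx]
      exact hu
    · rw [hc.mul_pow, hxv, one_mul]
      conv_rhs => rw [← pow_one y]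
      rw [pow_eq_pow_iff_modEq, hy]
      exact hv
  refine Nat.card_congr ⟨fun g => ⟨(g.1 ^ v, g.1 ^ u), (key g.1 g.2).2.1, (key g.1 g.2).1,
    Commute.pow_pow (Commute.refl g.1) u v⟩, fun q => ⟨q.1.2 * q.1.1, ?_⟩, ?_, ?_⟩
  · rw [q.2.2.2.orderOf_mul_eq_mul_orderOf_of_coprime, q.2.1, q.2.2.1]
    rw [q.2.1, q.2.2.1]
    exact hab
  · intro g
    exact Subtype.ext (key g.1 g.2).2.2
  · intro q
    obtain ⟨h1, h2⟩ := key2 q.1.2 q.1.1 q.2.1 q.2.2.1 q.2.2.2
    exact Subtype.ext (Prod.ext h2 h1)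

/-- Pairs `(y, C)`, `y` of order `m`, `C` cyclic of order `a` generated by an element commuting
with `y`. -/
def Pairs (G : Type u) [Group G] (a m : ℕ) : Set (G × Subgroup G) :=
  {t | orderOf t.1 = m ∧ t.2 ∈ Subgroup.zpowers '' {x : G | orderOf x = a ∧ Commute x t.1}}

theorem card_orderOf_eq {G : Type u} [Group G] [Finite G] {a m : ℕ} (hab : Nat.Coprime a m) :
    Nat.card {g : G // orderOf g = a * m} = Nat.totient a * Nat.card (Pairs G a m) := by
  classical
  rw [card_orderOf_mul hab]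
  have : Fintype {y : G // orderOf y = m} := Fintype.ofFinite _
  have h1 : Nat.card {q : G × G // orderOf q.1 = m ∧ orderOf q.2 = a ∧ Commute q.2 q.1} =
      Nat.card (Σ y : {y : G // orderOf y = m}, {x : G | orderOf x = a ∧ Commute x y.1}) := by
    refine Nat.card_congr ⟨fun q => ⟨⟨q.1.1, q.2.1⟩, ⟨q.1.2, q.2.2⟩⟩, fun t => ⟨(t.1.1, t.2.1), t.1.2, t.2.2⟩, fun q => rfl, fun t => rfl⟩
  have h2 : Nat.card (Pairs G a m) = Nat.card (Σ y : {y : G // orderOf y = m},
      (Subgroup.zpowers '' {x : G | orderOf x = a ∧ Commute x y.1} : Set (Subgroup G))) := by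
    refine Nat.card_congr ⟨fun q => ⟨⟨q.1.1, q.2.1⟩, ⟨q.1.2, q.2.2⟩⟩, fun t => ⟨(t.1.1, t.2.1), t.1.2, t.2.2⟩, fun q => rfl, fun t => rfl⟩
  rw [h1, h2, Nat.card_sigma, Nat.card_sigma, Finset.mul_sum]
  refine Finset.sum_congr rfl fun y _ => ?_
  apply card_eq_totient_mul
  · exact fun x hx => hx.1
  · rintro x ⟨hx1, hx2⟩ x' hx'
    refine ⟨?_, ?_⟩
    · rw [← hx1, ← Nat.card_zpowers, ← Nat.card_zpowers, hx']
    · have h3 : x' ∈ Subgroup.zpowers x := hx' ▸ Subgroup.mem_zpowers x'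
      obtain ⟨k, rfl⟩ := h3
      exact hx2.zpow_left k

/-- conjugation on pairs -/
theorem conj_mem_pairs {G : Type u} [Group G] {a m : ℕ} (g : G) {t : G × Subgroup G}
    (ht : t ∈ Pairs G a m) : ((g * t.1 * g⁻¹, MulAut.conj g • t.2) : G × Subgroup G) ∈ Pairs G a m := by
  obtain ⟨h1, x, ⟨h2, h3⟩, h4⟩ := ht
  refine ⟨?_, g * x * g⁻¹, ⟨?_, ?_⟩, ?_⟩
  · show orderOf (g * t.1 * g⁻¹) = m
    rw [← h1]
    exact orderOf_injective (MulAut.conj g).toMonoidHom (MulAut.conj g).injective t.1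
  · rw [← h2]
    exact orderOf_injective (MulAut.conj g).toMonoidHom (MulAut.conj g).injective x
  · exact h3.map (MulAut.conj g).toMonoidHom
  · show Subgroup.zpowers (g * x * g⁻¹) = MulAut.conj g • t.2
    rw [← h4]
    exact (MonoidHom.map_zpowers (MulAut.conj g).toMonoidHom x).symm

/-- the action of a subgroup on pairs by conjugation -/
@[reducible] def pairsAction {G : Type u} [Group G] (P : Subgroup G) (a m : ℕ) :
    MulAction P (Pairs G a m) where
  smul g t := ⟨((g : G) * t.1.1 * (g : G)⁻¹, MulAut.conj (g : G) • t.1.2), conj_mem_pairs (g : G) t.2⟩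
  one_smul t := by
    apply Subtype.ext
    show (((1 : P) : G) * t.1.1 * ((1 : P) : G)⁻¹, MulAut.conj ((1 : P) : G) • t.1.2) = t.1
    simp
  mul_smul g h t := by
    apply Subtype.ext
    show (((g * h : P) : G) * t.1.1 * ((g * h : P) : G)⁻¹, MulAut.conj ((g * h : P) : G) • t.1.2) =
      ((g : G) * ((h : G) * t.1.1 * (h : G)⁻¹) * (g : G)⁻¹,
        MulAut.conj (g : G) • (MulAut.conj (h : G) • t.1.2))
    rw [smul_smul, ← map_mul]
    refine Prod.ext ?_ rfl
    show ((g * h : P) : G) * t.1.1 * ((g * h : P) : G)⁻¹ = (g : G) * ((h : G) * t.1.1 * (h : G)⁻¹) * (g : G)⁻¹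
    rw [Subgroup.coe_mul]
    group

/-- cyclic subgroups of order `a` of `P` -/
def CycSub {G : Type u} [Group G] (P : Subgroup G) (a : ℕ) : Set (Subgroup G) :=
  Subgroup.zpowers '' {x : G | orderOf x = a ∧ x ∈ P}

theorem conj_mem_cycSub {G : Type u} [Group G] {P : Subgroup G} {a : ℕ} (g : P) {C : Subgroup G}
    (hC : C ∈ CycSub P a) : MulAut.conj (g : G) • C ∈ CycSub P a := by
  obtain ⟨x, ⟨h1, h2⟩, rfl⟩ := hC
  refine ⟨(g : G) * x * (g : G)⁻¹, ⟨?_, ?_⟩, ?_⟩
  · rw [← h1]
    exact orderOf_injective (MulAut.conj (g : G)).toMonoidHom (MulAut.conj (g : G)).injective x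
  · exact P.mul_mem (P.mul_mem g.2 h2) (P.inv_mem g.2)
  · exact (MonoidHom.map_zpowers (MulAut.conj (g : G)).toMonoidHom x).symm

/-- the action on `CycSub P a` by conjugation -/
@[reducible] def cycAction {G : Type u} [Group G] (P : Subgroup G) (a : ℕ) :
    MulAction P (CycSub P a) where
  smul g C := ⟨MulAut.conj (g : G) • C.1, conj_mem_cycSub g C.2⟩
  one_smul C := by
    apply Subtype.ext
    show MulAut.conj ((1 : P) : G) • C.1 = C.1
    simp
  mul_smul g h C := by
    apply Subtype.ext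
    show MulAut.conj ((g * h : P) : G) • C.1 = MulAut.conj (g : G) • (MulAut.conj (h : G) • C.1)
    rw [smul_smul, ← map_mul]
    rfl

/-- the number of cyclic subgroups of order `p ^ s` of `P` is divisible by `p` -/
theorem dvd_card_cycSub {G : Type u} [Group G] [Finite G] {p : ℕ} [Fact p.Prime] (hp : p ≠ 2)
    {P : Subgroup G} (hP : IsPGroup p P) (hnc : ¬ IsCyclic P) {s : ℕ} (hs : 2 ≤ s) :
    p ∣ Nat.card (CycSub P (p ^ s)) := by
  have hpp : p.Prime := Fact.out
  have h1 := dvd_card_orderOf hp hP hnc hs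
  have h2 : Nat.card {x : P // orderOf x = p ^ s} = Nat.card {x : G | orderOf x = p ^ s ∧ x ∈ P} := by
    refine Nat.card_congr ⟨fun x => ⟨x.1.1, by
      refine ⟨?_, x.1.2⟩
      rw [Subgroup.orderOf_coe, x.2]⟩, fun x => ⟨⟨x.1, x.2.2⟩, by
      rw [← Subgroup.orderOf_coe]
      exact x.2.1⟩, fun x => rfl, fun x => rfl⟩
  have h3 : Nat.card {x : G | orderOf x = p ^ s ∧ x ∈ P} =
      Nat.totient (p ^ s) * Nat.card (CycSub P (p ^ s)) := by
    apply card_eq_totient_mul
    · exact fun x hx => hx.1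
    · rintro x ⟨hx1, hx2⟩ x' hx'
      refine ⟨?_, ?_⟩
      · rw [← hx1, ← Nat.card_zpowers, ← Nat.card_zpowers, hx']
      · have h3 : x' ∈ Subgroup.zpowers x := hx' ▸ Subgroup.mem_zpowers x'
        exact (Subgroup.zpowers_le.mpr hx2) h3
  rw [h2, h3] at h1
  obtain ⟨k, hk⟩ : ∃ k, s = k + 1 := ⟨s - 1, by omega⟩
  subst hk
  rw [Nat.totient_prime_pow_succ hpp, pow_succ, mul_assoc] at h1
  have h4 := Nat.dvd_of_mul_dvd_mul_left (pow_pos hpp.pos k) h1
  refine (Nat.Coprime.dvd_mul_left ?_).mp h4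
  exact (Nat.coprime_self_sub_right hpp.one_lt.le).mpr (Nat.coprime_one_right p)

/-- For `p` odd, non-cyclic Sylow `p`-subgroups, `s ≥ 2` and `m` prime to `p`, the number of
elements of order `p ^ s * m` is divisible by `p ^ s`. -/
theorem main {G : Type u} [Group G] [Finite G] (p : ℕ) [Fact p.Prime] (hodd : p ≠ 2)
    (P : Sylow p G) (hP : ¬ IsCyclic ↥(P : Subgroup G)) (s m : ℕ) (hs : 1 < s) (hm : Nat.Coprime p m) :
    p ^ s ∣ Nat.card {g : G // orderOf g = p ^ s * m} := by
  classical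
  have hpp : p.Prime := Fact.out
  rw [card_orderOf_eq (Nat.Coprime.pow_left s hm)]
  let := pairsAction (P : Subgroup G) (p ^ s) m
  let := cycAction (P : Subgroup G) (p ^ s)
  have h1 : Nat.card (Pairs G (p ^ s) m) ≡ Nat.card (MulAction.fixedPoints P (Pairs G (p ^ s) m)) [MOD p] :=
    P.isPGroup'.card_modEq_card_fixedPoints _
  have h2 : Nat.card (CycSub (P : Subgroup G) (p ^ s)) ≡
      Nat.card (MulAction.fixedPoints P (CycSub (P : Subgroup G) (p ^ s))) [MOD p] :=
    P.isPGroup'.card_modEq_card_fixedPoints _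
  have h3 : p ∣ Nat.card (MulAction.fixedPoints P (CycSub (P : Subgroup G) (p ^ s))) :=
    (h2.dvd_iff dvd_rfl).mp (dvd_card_cycSub hodd P.isPGroup' hP hs)
  have h4 : Nat.card (MulAction.fixedPoints P (Pairs G (p ^ s) m)) =
      Nat.card {y : G // orderOf y = m ∧ ∀ g ∈ (P : Subgroup G), g * y * g⁻¹ = y} *
        Nat.card (MulAction.fixedPoints P (CycSub (P : Subgroup G) (p ^ s))) := by
    rw [← Nat.card_prod]
    -- fixed pairs
    have hfix : ∀ t : Pairs G (p ^ s) m, t ∈ MulAction.fixedPoints P (Pairs G (p ^ s) m) →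
        (∀ g ∈ (P : Subgroup G), g * t.1.1 * g⁻¹ = t.1.1) ∧
        (∀ g ∈ (P : Subgroup G), MulAut.conj g • t.1.2 = t.1.2) := by
      intro t ht
      constructor
      · intro g hg
        exact congrArg (fun z => z.1.1) (ht ⟨g, hg⟩)
      · intro g hg
        exact congrArg (fun z => z.1.2) (ht ⟨g, hg⟩)
    have hle : ∀ t : Pairs G (p ^ s) m, t ∈ MulAction.fixedPoints P (Pairs G (p ^ s) m) →
        t.1.2 ∈ CycSub (P : Subgroup G) (p ^ s) := by
      intro t ht
      obtain ⟨-, hn⟩ := hfix t ht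
      obtain ⟨h1, x, ⟨h2, h3⟩, h4⟩ := t.2
      refine ⟨x, ⟨h2, ?_⟩, h4⟩
      have hC : IsPGroup p t.1.2 := by
        rw [← h4]
        apply IsPGroup.of_card (n := s)
        rw [Nat.card_zpowers, h2]
      have hPC : (P : Subgroup G) ≤ Subgroup.normalizer (t.1.2 : Set G) := by
        intro g hg
        rw [Subgroup.mem_normalizer_iff]
        intro h
        conv_rhs => rw [← hn g hg]
        exact (Subgroup.smul_mem_pointwise_smul_iff (a := MulAut.conj g) (S := t.1.2) (x := h)).symm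
      have hsup := P.isPGroup'.to_sup_of_normal_right' hC hPC
      have := P.is_maximal' hsup le_sup_left
      have h5 : t.1.2 ≤ (P : Subgroup G) := by
        rw [← this]
        exact le_sup_right
      apply h5
      rw [← h4]
      exact Subgroup.mem_zpowers x
    refine Nat.card_congr ⟨fun t => (⟨t.1.1.1, t.1.2.1, (hfix t.1 t.2).1⟩, ⟨⟨t.1.1.2, hle t.1 t.2⟩, fun g => Subtype.ext ((hfix t.1 t.2).2 g g.2)⟩), fun q => ⟨⟨(q.1.1, q.2.1.1), q.1.2.1, ?_⟩, ?_⟩, ?_, ?_⟩
    · obtain ⟨x, ⟨hx1, hx2⟩, hx3⟩ := q.2.1.2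
      refine ⟨x, ⟨hx1, ?_⟩, hx3⟩
      have := q.1.2.2 x hx2
      show x * q.1.1 = q.1.1 * x
      rw [mul_inv_eq_iff_eq_mul] at this
      exact this
    · intro g
      apply Subtype.ext
      refine Prod.ext (q.1.2.2 g g.2) ?_
      exact congrArg Subtype.val (q.2.2 g)
    · intro t
      rfl
    · intro q
      rfl
  have h5 : p ∣ Nat.card (Pairs G (p ^ s) m) := (h1.dvd_iff dvd_rfl).mpr (h4 ▸ h3.mul_left _)
  obtain ⟨k, hk⟩ : ∃ k, s = k + 1 := ⟨s - 1, by omega⟩
  subst hk
  obtain ⟨c, hc⟩ := h5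
  rw [hc, Nat.totient_prime_pow_succ hpp]
  exact ⟨(p - 1) * c, by ring⟩

end Cfsg.Agent.H496.CyclicCount
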