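import Mathlib
import Cfsg.Agent.S0042
import Cfsg.Agent.S0040
import Cfsg.Agent.S0041
import Cfsg.Agent.S0068
import Cfsg.Agent.S0039
import Cfsg.Agent.S0666
import Cfsg.Agent.OddOrderLocal.CNNil
import Cfsg.Agent.H496.ThreePrimes
set_option linter.all false

/-!
# Structure of 2-Frobenius groups
-/

set_option autoImplicit false

namespace Cfsg.Agent.H496.TwoFrob

open Cfsg

/-- Basic data of a Frobenius group with complement `C` and kernel the subgroup `N`. -/
theorem basic {F : Type*} [Group F] [Finite F] {C N : Subgroup F} (hC : IsFrobeniusComplement C)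
    (hN : frobeniusKernel C = (N : Set F)) : N.Normal ∧ Group.IsNilpotent N ∧
      Subgroup.IsComplement' N C ∧ N ≠ ⊥ ∧ (∀ h ∈ C, h ≠ 1 → N ⊓ Subgroup.centralizer {h} = ⊥) ∧
      (Nat.card N).Coprime (Nat.card C) := by
  obtain ⟨M, hM, hMn, hMnil⟩ := Cfsg.Agent.S0042.result C hC
  obtain ⟨M', hM', hMn', hMc⟩ := Cfsg.Agent.S0035.result C hC
  have h1 : M = N := SetLike.coe_injective (hM.trans hN)
  have h2 : M' = N := SetLike.coe_injective (hM'.trans hN)
  subst h1
  subst h2
  have h3 := Cfsg.Agent.Solvable.FrobeniusKernel.coprime_index_card hC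
  have h4 : C.index = Nat.card M' := hMc.index_eq_card
  rw [h4] at h3
  have h5 : M' ≠ ⊥ := by
    intro h
    rw [h, Subgroup.card_bot] at h4
    exact hC.2.1 (Subgroup.index_eq_one.mp h4)
  exact ⟨hMn, hMnil, hMc, h5, (Cfsg.Agent.S0039.result M' C hMc h5 hC.1).mp hC, h3⟩

/-- Elements commuting with a nontrivial element of the kernel lie in the kernel. -/
theorem mem_kernel_of_commute {F : Type*} [Group F] [Finite F] {C N : Subgroup F}
    (hC : IsFrobeniusComplement C) (hN : frobeniusKernel C = (N : Set F)) {x g : F} (hx : x ∈ N)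
    (hx1 : x ≠ 1) (h : Commute g x) : g ∈ N := by
  by_contra hg
  have hg' : g ∉ frobeniusKernel C := by rw [hN]; exact hg
  have hg1 : g ≠ 1 := by
    rintro rfl
    exact hg N.one_mem
  obtain ⟨-, -, -, -, hf, -⟩ := basic hC hN
  unfold frobeniusKernel at hg'
  simp only [Set.mem_ofPred_eq, not_or, not_forall, not_not] at hg'
  obtain ⟨-, a, ha⟩ := hg'
  have hn : N.Normal := (basic hC hN).1
  rw [Subgroup.mem_pointwise_smul_iff_inv_smul_mem] at ha
  have h1 : a⁻¹ * g * a ∈ C := by
    have : (MulAut.conj a)⁻¹ • g = a⁻¹ * g * a := by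
      rw [← map_inv, MulAut.smul_def, MulAut.conj_apply, inv_inv]
    rwa [this] at ha
  have h2 : a⁻¹ * g * a ≠ 1 := by
    intro h3
    apply hg1
    have : g = a * (a⁻¹ * g * a) * a⁻¹ := by group
    rw [this, h3]
    group
  have h3 : a⁻¹ * x * a ∈ N ⊓ Subgroup.centralizer {a⁻¹ * g * a} := by
    refine Subgroup.mem_inf.mpr ⟨?_, ?_⟩
    · have := hn.conj_mem x hx a⁻¹
      simpa using this
    · rw [Subgroup.mem_centralizer_singleton_iff]
      have h4 : g * x = x * g := h
      calc a⁻¹ * x * a * (a⁻¹ * g * a) = a⁻¹ * (x * g) * a := by group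
        _ = a⁻¹ * (g * x) * a := by rw [h4]
        _ = a⁻¹ * g * a * (a⁻¹ * x * a) := by group
  rw [hf _ h1 h2, Subgroup.mem_bot] at h3
  apply hx1
  have : x = a * (a⁻¹ * x * a) * a⁻¹ := by group
  rw [this, h3]
  group

/-- A nilpotent Frobenius complement of odd order is cyclic. -/
theorem isCyclic_of_odd {F : Type*} [Group F] [Finite F] {C N : Subgroup F}
    (hC : IsFrobeniusComplement C) (hN : frobeniusKernel C = (N : Set F))
    (hnil : Group.IsNilpotent C) (hodd : Odd (Nat.card C)) : IsCyclic C := by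
  obtain ⟨hn, -, hc, hne, hf, -⟩ := basic hC hN
  have hZ : IsZGroup C := by
    rw [isZGroup_iff]
    intro p hp P
    have : Fact p.Prime := ⟨hp⟩
    rcases Cfsg.Agent.S0040.result N C hc hne hf p P with h | ⟨n, ⟨e⟩⟩
    · exact h
    · exfalso
      have h1 : Nat.card P ∣ Nat.card C := Subgroup.card_subgroup_dvd_card _
      rw [Nat.card_congr e.toEquiv, Nat.card_eq_fintype_card, QuaternionGroup.card] at h1
      have h2 : 2 ∣ Nat.card C := (Dvd.intro (2 * 2 ^ n) (by ring)).trans h1
      exact (Nat.not_even_iff_odd.mpr hodd) (even_iff_two_dvd.mpr h2)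
  infer_instance

/-- The complement of a 2-Frobenius configuration `C₁ ≅ K̄`, `K̄` the kernel of `Ḡ`, has odd
order. -/
theorem odd_of_kernel {A B : Type*} [Group A] [Finite A] [Group B] [Finite B]
    {C N : Subgroup A} (hC : IsFrobeniusComplement C) (hN : frobeniusKernel C = (N : Set A))
    {D M : Subgroup B} (hD : IsFrobeniusComplement D) (hM : frobeniusKernel D = (M : Set B))
    (e : C ≃* M) : Odd (Nat.card C) := by
  obtain ⟨hn, -, hc, hne, hf, -⟩ := basic hC hN
  obtain ⟨hn', -, hc', hne', hf', -⟩ := basic hD hM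
  rw [← Nat.not_even_iff_odd, even_iff_two_dvd]
  intro h2
  obtain ⟨⟨s, hsC, hs2, huniq, -⟩, -⟩ := Cfsg.Agent.S0068.result N C hc hne hf h2
  obtain ⟨d, hd, hd1⟩ := D.bot_or_exists_ne_one.resolve_left hD.1
  set τ : M := e ⟨s, hsC⟩ with hτ
  have hτ2 : orderOf τ = 2 := by
    rw [hτ, MulEquiv.orderOf_eq, Subgroup.orderOf_mk, hs2]
  have hu : ∀ t : M, orderOf t = 2 → t = τ := by
    intro t ht
    have h3 : orderOf (e.symm t : A) = 2 := by
      rw [Subgroup.orderOf_coe, MulEquiv.orderOf_eq, ht]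
    have h4 := huniq (e.symm t : A) (e.symm t).2 h3
    have h5 : e.symm t = ⟨s, hsC⟩ := Subtype.ext h4
    rw [hτ, ← h5, MulEquiv.apply_symm_apply]
  have h5 : (MulAut.conjNormal d τ : M) = τ := by
    apply hu
    rw [MulEquiv.orderOf_eq, hτ2]
  have h6 : d * (τ : B) * d⁻¹ = τ := by
    have := congrArg Subtype.val h5
    rwa [MulAut.conjNormal_apply] at this
  have h7 : (τ : B) ∈ M ⊓ Subgroup.centralizer {d} := by
    refine Subgroup.mem_inf.mpr ⟨τ.2, ?_⟩
    rw [Subgroup.mem_centralizer_singleton_iff]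
    rw [mul_inv_eq_iff_eq_mul] at h6
    exact h6.symm
  rw [hf' d hd hd1, Subgroup.mem_bot] at h7
  rw [← Subgroup.orderOf_coe, h7, orderOf_one] at hτ2
  omega

/-- The complement of a Frobenius group with cyclic kernel is cyclic. -/
theorem isCyclic_compl {F : Type*} [Group F] [Finite F] {C N : Subgroup F}
    (hC : IsFrobeniusComplement C) (hN : frobeniusKernel C = (N : Set F)) (hcyc : IsCyclic N) :
    IsCyclic C := by
  obtain ⟨hn, -, hc, hne, hf, -⟩ := basic hC hN
  have hab : IsMulCommutative N := ⟨⟨fun a b => by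
    let := IsCyclic.commGroup (α := N)
    exact mul_comm a b⟩⟩
  have hcomm : IsMulCommutative C := by
    refine ⟨⟨fun a b => ?_⟩⟩
    let φ : C →* MulAut N := MulAut.conjNormal.comp C.subtype
    have hinj : Function.Injective φ := by
      rw [injective_iff_map_eq_one]
      intro a ha
      by_contra ha1
      obtain ⟨k, hk, hk1⟩ := N.bot_or_exists_ne_one.resolve_left hne
      have h1 : φ a ⟨k, hk⟩ = ⟨k, hk⟩ := by rw [ha]; rfl
      have h2 : (a : F) * k * (a : F)⁻¹ = k := by
        have := congrArg Subtype.val h1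
        exact this
      have h3 : k ∈ N ⊓ Subgroup.centralizer {(a : F)} := by
        refine Subgroup.mem_inf.mpr ⟨hk, ?_⟩
        rw [Subgroup.mem_centralizer_singleton_iff]
        rw [mul_inv_eq_iff_eq_mul] at h2
        exact h2.symm
      rw [hf a a.2 (fun h => ha1 (Subtype.ext h)), Subgroup.mem_bot] at h3
      exact hk1 h3
    apply hinj
    apply (IsCyclic.mulAutMulEquiv N).injective
    simp only [map_mul]
    exact mul_comm _ _
  exact Cfsg.Agent.S0041.result C N hne (by
    intro c _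
    rw [Subgroup.mem_normalizer_iff]
    intro k
    exact ⟨fun hk => hn.conj_mem k hk c, fun hk => by
      have := hn.conj_mem _ hk c⁻¹
      have h1 : c⁻¹ * (c * k * c⁻¹) * c⁻¹⁻¹ = k := by group
      rwa [h1] at this⟩) hf (Or.inl hcomm)

/-- Fixed points of the complement of `G ⧸ H` in `H`. -/
theorem exists_fixed {G : Type*} [Group G] [Finite G] (H : Subgroup G) [H.Normal]
    (hHnil : Group.IsNilpotent H) {D M : Subgroup (G ⧸ H)}
    (hD : IsFrobeniusComplement D) (hM : frobeniusKernel D = (M : Set (G ⧸ H)))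
    (hfix : ∀ b : G, (QuotientGroup.mk' H b) ∈ M → b ∉ H → ∀ v ∈ H, b * v = v * b → v = 1)
    {p : ℕ} (hp : p.Prime) (hpH : p ∣ Nat.card H) (hpM : ¬ p ∣ Nat.card M) :
    ∃ v ∈ H, orderOf v = p ∧ ∀ a : G, QuotientGroup.mk' H a ∈ D → a * v = v * a := by
  classical
  obtain ⟨hn', -, hc', hne', hf', -⟩ := basic hD hM
  have hHn : H.Normal := inferInstance
  -- the module
  let V : Subgroup G :=
    { carrier := {v | v ∈ H ∧ (∀ x ∈ H, x * v = v * x) ∧ v ^ p = 1}
      mul_mem' := by
        rintro a b ⟨ha, ha', ha''⟩ ⟨hb, hb', hb''⟩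
        refine ⟨H.mul_mem ha hb, fun x hx => ?_, ?_⟩
        · rw [← mul_assoc, ha' x hx, mul_assoc, hb' x hx, mul_assoc]
        · have hc : Commute a b := hb' a ha
          rw [hc.mul_pow, ha'', hb'', one_mul]
      one_mem' := ⟨H.one_mem, fun x _ => by rw [mul_one, one_mul], one_pow p⟩
      inv_mem' := by
        rintro a ⟨ha, ha', ha''⟩
        refine ⟨H.inv_mem ha, fun x hx => ?_, by rw [inv_pow, ha'', inv_one]⟩
        have h1 : Commute x a := ha' x hx
        exact h1.inv_right }
  have hVn : V.Normal := by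
    constructor
    rintro v ⟨hv, hv', hv''⟩ g
    refine ⟨hHn.conj_mem v hv g, fun x hx => ?_, by rw [conj_pow, hv'', mul_one, mul_inv_cancel]⟩
    have h1 := hv' (g⁻¹ * x * g) (by simpa using hHn.conj_mem x hx g⁻¹)
    calc x * (g * v * g⁻¹) = g * ((g⁻¹ * x * g) * v) * g⁻¹ := by group
      _ = g * (v * (g⁻¹ * x * g)) * g⁻¹ := by rw [h1]
      _ = g * v * g⁻¹ * x := by group
  have hVH : V ≤ H := fun v hv => hv.1
  have hVab : ∀ a b : V, a * b = b * a := fun a b => Subtype.ext (b.2.2.1 a a.2.1)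
  let : CommGroup V := { (inferInstance : Group V) with mul_comm := hVab }
  let φ : (G ⧸ H) →* MulAut V := QuotientGroup.lift H (MulAut.conjNormal : G →* MulAut V) (by
    intro x hx
    rw [MonoidHom.mem_ker]
    ext v
    rw [MulAut.conjNormal_apply, MulAut.one_apply, v.2.2.1 x hx]
    group)
  have hφ : ∀ (g : G) (v : V), ((φ (QuotientGroup.mk' H g) v : V) : G) = g * v * g⁻¹ := by
    intro g v
    rfl
  let : MulDistribMulAction (G ⧸ H) V := MulDistribMulAction.compHom V φ
  have hsm : ∀ (g : G) (v : V), ((QuotientGroup.mk' H g • v : V) : G) = g * v * g⁻¹ := hφ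
  have : Fintype (G ⧸ H) := Fintype.ofFinite _
  -- the kernel has no fixed points
  have h1 : ∀ v : V, (∀ n ∈ M, n • v = v) → v = 1 := by
    intro v hv
    obtain ⟨m, hm, hm1⟩ := M.bot_or_exists_ne_one.resolve_left hne'
    obtain ⟨b, rfl⟩ := QuotientGroup.mk'_surjective H m
    have h2 := congrArg Subtype.val (hv _ hm)
    rw [hsm, mul_inv_eq_iff_eq_mul] at h2
    apply Subtype.ext
    exact hfix b hm (fun hb => hm1 ((QuotientGroup.eq_one_iff b).mpr hb)) v v.2.1 h2
  -- a nontrivial fixed point of `D`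
  have h2 : ∃ v : V, (∀ h ∈ D, h • v = v) ∧ v ≠ 1 := by
    by_contra hcon
    push Not at hcon
    have h3 := Cfsg.Agent.S0666.pow_card_eq_one M D hc' hD.2.2 h1 hcon
    obtain ⟨z, hzH, hz, hzc⟩ :=
      Cfsg.Agent.OddOrderLocal.CNNil.exists_central_orderOf_subgroup hHnil hp hpH
    have h4 := h3 ⟨z, hzH, hzc, by rw [← hz]; exact pow_orderOf_eq_one z⟩
    have h5 : z ^ Nat.card M = 1 := congrArg Subtype.val h4
    have h6 := orderOf_dvd_of_pow_eq_one h5
    rw [hz] at h6
    exact hpM h6
  obtain ⟨v, hv, hv1⟩ := h2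
  refine ⟨v, v.2.1, ?_, ?_⟩
  · have : Fact p.Prime := ⟨hp⟩
    exact orderOf_eq_prime v.2.2.2 (fun h => hv1 (Subtype.ext h))
  · intro a ha
    have h3 := congrArg Subtype.val (hv _ ha)
    rwa [hsm, mul_inv_eq_iff_eq_mul] at h3

/-- Element of order `p * q` from commuting elements of orders divisible by `p`, `q`. -/
theorem exists_of_commute {G : Type*} [Group G] [Finite G] {p q : ℕ} (hpq : Nat.Coprime p q)
    {x y : G} (hx : p ∣ orderOf x) (hy : q ∣ orderOf y) (hc : Commute x y) :
    ∃ g : G, orderOf g = p * q := by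
  obtain ⟨a, ha⟩ := hx
  obtain ⟨b, hb⟩ := hy
  have ha0 : a ≠ 0 := by
    rintro rfl
    have := orderOf_pos x
    omega
  have hb0 : b ≠ 0 := by
    rintro rfl
    have := orderOf_pos y
    omega
  have h1 : orderOf (x ^ a) = p := by
    rw [orderOf_pow_of_dvd ha0 ⟨p, by rw [ha, mul_comm]⟩, ha]
    exact Nat.mul_div_cancel _ (Nat.pos_of_ne_zero ha0)
  have h2 : orderOf (y ^ b) = q := by
    rw [orderOf_pow_of_dvd hb0 ⟨q, by rw [hb, mul_comm]⟩, hb]
    exact Nat.mul_div_cancel _ (Nat.pos_of_ne_zero hb0)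
  refine ⟨x ^ a * y ^ b, ?_⟩
  rw [(hc.pow_pow a b).orderOf_mul_eq_mul_orderOf_of_coprime, h1, h2]
  rw [h1, h2]
  exact hpq

/-- The main theorem. -/
theorem main {G : Type*} [Group G] [Finite G] (H K : Subgroup G) [H.Normal] [K.Normal] (hlt : H < K)
    (hK : ∃ C : Subgroup ↥K, Cfsg.IsFrobeniusComplement C ∧ Cfsg.frobeniusKernel C = (H.subgroupOf K : Set ↥K))
    (hGH : ∃ C : Subgroup (G ⧸ H), Cfsg.IsFrobeniusComplement C ∧ Cfsg.frobeniusKernel C = (K.map (QuotientGroup.mk' H) : Set (G ⧸ H))) :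
    Group.IsSolvable G ∧ Odd (Nat.card (↥K ⧸ H.subgroupOf K)) ∧
      Nat.Coprime (Nat.card (↥K ⧸ H.subgroupOf K)) (Nat.card ↥H * Nat.card (G ⧸ K)) ∧ IsCyclic (G ⧸ K) ∧
      ∀ p q : ℕ, p.Prime → q.Prime → p ≠ q → p ∣ Nat.card G → q ∣ Nat.card G →
        ((∃ g : G, orderOf g = p * q) ↔ (p ∣ Nat.card (↥K ⧸ H.subgroupOf K) ↔ q ∣ Nat.card (↥K ⧸ H.subgroupOf K))) := by
  obtain ⟨C, hC, hCk⟩ := hK
  obtain ⟨D, hD, hDk⟩ := hGH
  set N : Subgroup K := H.subgroupOf K with hN
  set M : Subgroup (G ⧸ H) := K.map (QuotientGroup.mk' H) with hM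
  obtain ⟨hNn, hNnil, hNc, hNne, hNf, hNcop⟩ := basic hC hCk
  obtain ⟨hMn, hMnil, hMc, hMne, hMf, hMcop⟩ := basic hD hDk
  -- `K / H ≅ M`
  have e0 : Nonempty (K ⧸ N ≃* M) := by
    let f : K →* M := (QuotientGroup.mk' H).subgroupMap K
    have hf : Function.Surjective f := (QuotientGroup.mk' H).subgroupMap_surjective K
    have hker : f.ker = N := by
      ext x
      rw [MonoidHom.mem_ker, hN, Subgroup.mem_subgroupOf, Subtype.ext_iff]
      exact QuotientGroup.eq_one_iff (x : G)
    exact ⟨(QuotientGroup.quotientMulEquivOfEq hker.symm).trans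
      (QuotientGroup.quotientKerEquivOfSurjective f hf)⟩
  obtain ⟨e0⟩ := e0
  have e1 : K ⧸ N ≃* C := hNc.symm.QuotientMulEquiv
  have e2 : (G ⧸ H) ⧸ M ≃* D := hMc.symm.QuotientMulEquiv
  have e3 : (G ⧸ H) ⧸ M ≃* G ⧸ K := QuotientGroup.quotientQuotientEquivQuotient H K hlt.le
  have e4 : C ≃* M := e1.symm.trans e0
  have e5 : N ≃* H := Subgroup.subgroupOfEquivOfLe hlt.le
  have hodd : Odd (Nat.card C) := odd_of_kernel hC hCk hD hDk e4
  have hCnil : Group.IsNilpotent C := Group.nilpotent_of_mulEquiv e4.symm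
  have hHnil : Group.IsNilpotent H := Group.nilpotent_of_mulEquiv e5
  have hCcyc : IsCyclic C := isCyclic_of_odd hC hCk hCnil hodd
  have hMcyc : IsCyclic M := isCyclic_of_surjective e4 e4.surjective
  have hDcyc : IsCyclic D := isCyclic_compl hD hDk hMcyc
  have hGKcyc : IsCyclic (G ⧸ K) := isCyclic_of_surjective (e2.symm.trans e3) (e2.symm.trans e3).surjective
  have hcC : Nat.card (K ⧸ N) = Nat.card C := Nat.card_congr e1.toEquiv
  have hcM : Nat.card (K ⧸ N) = Nat.card M := Nat.card_congr e0.toEquiv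
  have hcD : Nat.card (G ⧸ K) = Nat.card D := Nat.card_congr (e3.symm.trans e2).toEquiv
  have hcH : Nat.card N = Nat.card H := Nat.card_congr e5.toEquiv
  have hcop1 : Nat.Coprime (Nat.card (K ⧸ N)) (Nat.card H) := by
    rw [hcC, ← hcH]
    exact hNcop.symm
  have hcop2 : Nat.Coprime (Nat.card (K ⧸ N)) (Nat.card (G ⧸ K)) := by
    rw [hcM, hcD]
    exact hMcop
  have hcardG : Nat.card G = Nat.card H * Nat.card (K ⧸ N) * Nat.card (G ⧸ K) := by
    rw [K.card_eq_card_quotient_mul_card_subgroup, N.card_eq_card_quotient_mul_card_subgroup, hcH]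
    ring
  refine ⟨?_, by rw [hcC]; exact hodd, Nat.Coprime.mul_right hcop1 hcop2, hGKcyc, ?_⟩
  · -- solvable
    have h1 : Group.IsSolvable H := inferInstance
    have hMcomm : Group.IsSolvable M := by
      let := IsCyclic.commGroup (α := M)
      infer_instance
    have hQ : Group.IsSolvable ((G ⧸ H) ⧸ M) := by
      have : IsCyclic ((G ⧸ H) ⧸ M) := isCyclic_of_surjective e2.symm e2.symm.surjective
      let := IsCyclic.commGroup (α := (G ⧸ H) ⧸ M)
      infer_instance
    have h2 : Group.IsSolvable (G ⧸ H) :=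
      Group.isSolvable_of_ker_le_range M.subtype (QuotientGroup.mk' M) (by simp)
    exact Group.isSolvable_of_ker_le_range H.subtype (QuotientGroup.mk' H) (by simp)
  · -- the prime graph
    have hfpf : ∀ b : G, (QuotientGroup.mk' H b) ∈ M → b ∉ H → ∀ v ∈ H, b * v = v * b → v = 1 := by
      intro b hb hbH v hv hbv
      have hbK : b ∈ K := by
        rw [hM] at hb
        obtain ⟨k, hk, hkb⟩ := hb
        have h1 : k⁻¹ * b ∈ H := QuotientGroup.eq.mp hkb
        have h2 := K.mul_mem hk (hlt.le h1)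
        rwa [mul_inv_cancel_left] at h2
      by_contra hv1
      have h1 : (⟨b, hbK⟩ : K) ∈ N := by
        refine mem_kernel_of_commute hC hCk (x := ⟨v, hlt.le hv⟩) hv (fun h => hv1 ?_) ?_
        · exact congrArg Subtype.val h
        · exact Subtype.ext hbv
      exact hbH h1
    -- no edge
    have hno : ∀ p q : ℕ, p.Prime → q.Prime → p ≠ q → p ∣ Nat.card (K ⧸ N) →
        ¬ q ∣ Nat.card (K ⧸ N) → ∀ g : G, orderOf g ≠ p * q := by
      intro p q hp hq hpq hpm hqm g hg
      have hx : orderOf (g ^ q) = p := by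
        rw [orderOf_pow_of_dvd hq.ne_zero ⟨p, by rw [hg, mul_comm]⟩, hg]
        exact Nat.mul_div_cancel _ hq.pos
      have hy : orderOf (g ^ p) = q := by
        rw [orderOf_pow_of_dvd hp.ne_zero ⟨q, by rw [hg]⟩, hg]
        exact Nat.mul_div_cancel_left _ hp.pos
      have hxy : Commute (g ^ p) (g ^ q) := Commute.pow_pow_self g p q
      set x := g ^ q with hxd
      set y := g ^ p with hyd
      have hpK : ¬ p ∣ Nat.card (G ⧸ K) := by
        intro h
        exact Nat.not_coprime_of_dvd_of_dvd hp.one_lt hpm h hcop2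
      have hpH : ¬ p ∣ Nat.card H := by
        intro h
        exact Nat.not_coprime_of_dvd_of_dvd hp.one_lt hpm h hcop1
      have hxK : x ∈ K := by
        rw [← QuotientGroup.eq_one_iff]
        have h1 : orderOf (x : G ⧸ K) ∣ p := by
          rw [← hx]
          exact orderOf_map_dvd (QuotientGroup.mk' K) x
        rcases (Nat.dvd_prime hp).mp h1 with h2 | h2
        · exact orderOf_eq_one_iff.mp h2
        · exact absurd (h2 ▸ orderOf_dvd_natCard (x : G ⧸ K)) hpK
      have hxH : x ∉ H := by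
        intro h
        apply hpH
        rw [← hx, ← Subgroup.orderOf_mk x h]
        exact orderOf_dvd_natCard _
      have hxM : QuotientGroup.mk' H x ∈ M := Subgroup.mem_map_of_mem _ hxK
      have hx1 : QuotientGroup.mk' H x ≠ 1 := fun h => hxH ((QuotientGroup.eq_one_iff x).mp h)
      by_cases hyH : y ∈ H
      · have h1 := hfpf x hxM hxH y hyH hxy.symm
        rw [h1, orderOf_one] at hy
        exact hq.one_lt.ne hy
      · have h1 : QuotientGroup.mk' H y ∈ M :=
          mem_kernel_of_commute hD hDk hxM hx1 (hxy.map (QuotientGroup.mk' H))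
        apply hqm
        rw [hcM]
        have h2 : orderOf (QuotientGroup.mk' H y) ∣ q := by
          rw [← hy]
          exact orderOf_map_dvd _ y
        rcases (Nat.dvd_prime hq).mp h2 with h3 | h3
        · exact absurd ((QuotientGroup.eq_one_iff y).mp (orderOf_eq_one_iff.mp h3)) hyH
        · rw [← h3, ← Subgroup.orderOf_mk _ h1]
          exact orderOf_dvd_natCard _
    intro p q hp hq hpq hpG hqG
    have hcoppq : Nat.Coprime p q := (Nat.coprime_primes hp hq).mpr hpq
    constructor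
    · rintro ⟨g, hg⟩
      constructor
      · intro h1
        by_contra h2
        exact hno p q hp hq hpq h1 h2 g hg
      · intro h1
        by_contra h2
        exact hno q p hq hp hpq.symm h1 h2 g (by rw [hg, mul_comm])
    · intro hiff
      by_cases hpm : p ∣ Nat.card (K ⧸ N)
      · -- both in `C`
        have hqm := hiff.mp hpm
        obtain ⟨c, hc⟩ := IsCyclic.exists_ofOrder_eq_natCard (α := C)
        have h1 : p * q ∣ orderOf (((c : C) : K) : G) := by
          rw [Subgroup.orderOf_coe, Subgroup.orderOf_coe, hc, ← hcC]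
          exact hcoppq.mul_dvd_of_dvd_of_dvd hpm hqm
        obtain ⟨k, hk⟩ := Cfsg.Agent.H496.ThreePrimes.exists_orderOf_eq_mul _ h1
        exact ⟨_, hk⟩
      · have hqm : ¬ q ∣ Nat.card (K ⧸ N) := fun h => hpm (hiff.mpr h)
        have hsplit : ∀ r : ℕ, r.Prime → r ∣ Nat.card G → ¬ r ∣ Nat.card (K ⧸ N) →
            r ∣ Nat.card H ∨ r ∣ Nat.card (G ⧸ K) := by
          intro r hr h1 h2
          rw [hcardG] at h1
          rcases hr.dvd_mul.mp h1 with h3 | h3
          · rcases hr.dvd_mul.mp h3 with h4 | h4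
            · exact Or.inl h4
            · exact absurd h4 h2
          · exact Or.inr h3
        -- mixed case
        have hmix : ∀ r s : ℕ, r.Prime → s.Prime → r ≠ s → r ∣ Nat.card H → s ∣ Nat.card (G ⧸ K) →
            ¬ r ∣ Nat.card (K ⧸ N) → ∃ g : G, orderOf g = r * s := by
          intro r s hr hs hrs h1 h2 h3
          obtain ⟨v, hvH, hv, hvc⟩ := exists_fixed H hHnil hD hDk hfpf hr h1 (by rwa [← hcM])
          rw [hcD] at h2
          have : Fact s.Prime := ⟨hs⟩
          obtain ⟨d, hd⟩ := exists_prime_orderOf_dvd_card' s h2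
          obtain ⟨a, ha⟩ := QuotientGroup.mk'_surjective H (d : G ⧸ H)
          have h4 : s ∣ orderOf a := by
            have h5 := orderOf_map_dvd (QuotientGroup.mk' H) a
            rwa [ha, Subgroup.orderOf_coe, hd] at h5
          have h5 : Commute v a := (hvc a (by rw [ha]; exact d.2)).symm
          exact exists_of_commute ((Nat.coprime_primes hr hs).mpr hrs) (by rw [hv]) h4 h5
        rcases hsplit p hp hpG hpm with h1 | h1 <;> rcases hsplit q hq hqG hqm with h2 | h2
        · obtain ⟨x, hxH, hx, hxc⟩ :=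
            Cfsg.Agent.OddOrderLocal.CNNil.exists_central_orderOf_subgroup hHnil hp h1
          obtain ⟨y, hyH, hy, -⟩ :=
            Cfsg.Agent.OddOrderLocal.CNNil.exists_central_orderOf_subgroup hHnil hq h2
          exact exists_of_commute hcoppq (by rw [hx]) (by rw [hy]) (hxc y hyH).symm
        · exact hmix p q hp hq hpq h1 h2 hpm
        · obtain ⟨g, hg⟩ := hmix q p hq hp hpq.symm h2 h1 hqm
          exact ⟨g, by rw [hg, mul_comm]⟩
        · obtain ⟨c, hc⟩ := IsCyclic.exists_ofOrder_eq_natCard (α := G ⧸ K)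
          obtain ⟨a, ha⟩ := QuotientGroup.mk'_surjective K c
          have h3 : p * q ∣ orderOf a := by
            have h5 := orderOf_map_dvd (QuotientGroup.mk' K) a
            rw [ha, hc] at h5
            exact (hcoppq.mul_dvd_of_dvd_of_dvd h1 h2).trans h5
          obtain ⟨k, hk⟩ := Cfsg.Agent.H496.ThreePrimes.exists_orderOf_eq_mul _ h3
          exact ⟨_, hk⟩

end Cfsg.Agent.H496.TwoFrob
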